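/-
helper99: sheet project KSL (S2479, class number of `SL_n(q)`): common definitions.
All modules of the sheet import this file and state their results in its terms.
-/
import Cfsg.Agent.Lib.Helper99.GLClassMod

set_option autoImplicit false

universe u

namespace Cfsg.Agent.Lib.Helper99.KSL

open Polynomial Finset DirectSum
open Cfsg.Agent.Lib.Helper99.GLClass

variable {F : Type u} [Field F]

/-- signed constant term: the determinant of multiplication by `X` on `F[X]/(f)`, `f` monic -/
noncomputable def sc (f : F[X]) : F := (-1) ^ f.natDegree * f.coeff 0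

/-- the determinant attached to an invariant tuple -/
noncomputable def tdet {n : ℕ} (H : Fin n → F[X]) : F := ∏ j : Fin n, sc (H j) ^ ((j : ℕ) + 1)

/-- gcd of the block sizes `j + 1` that occur in a degree sequence -/
def dgcd {n : ℕ} (d : Fin n → ℕ) : ℕ :=
  (univ.filter (fun j : Fin n => d j ≠ 0)).gcd (fun j => (j : ℕ) + 1)

/-- the index bound of a degree sequence -/
def gd (q : ℕ) {n : ℕ} (d : Fin n → ℕ) : ℕ := Nat.gcd (q - 1) (dgcd d)

/-- the index bound of an invariant tuple -/
noncomputable def tg (q : ℕ) {n : ℕ} (H : Fin n → F[X]) : ℕ := gd q (fun j => (H j).natDegree)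

/-- number of invariant tuples with a given degree sequence -/
def w (q : ℕ) {n : ℕ} (d : Fin n → ℕ) : ℕ := ∏ j : Fin n, Mq q (d j)

/-- degree sequences of invariant tuples of `n × n` matrices -/
def degSeq (n : ℕ) : Finset (Fin n → ℕ) :=
  (Fintype.piFinset (fun _ : Fin n => range (n + 1))).filter
    (fun d => ∑ j : Fin n, ((j : ℕ) + 1) * d j = n)

/-- invariant tuples with a given degree sequence -/
noncomputable def Td (F : Type u) [Field F] [Fintype F] {n : ℕ} (d : Fin n → ℕ) :
    Finset (Fin n → F[X]) :=
  Fintype.piFinset (fun j => Pset F (d j))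

/-- multiplication by `r` on an `F[X]`-module, as an `F`-linear map -/
noncomputable def mulBy (M : Type*) [AddCommGroup M] [Module F M] [Module F[X] M]
    [IsScalarTower F F[X] M] (r : F[X]) : M →ₗ[F] M :=
  (LinearMap.lsmul F[X] M r).restrictScalars F

@[simp] theorem mulBy_apply (M : Type*) [AddCommGroup M] [Module F M] [Module F[X] M]
    [IsScalarTower F F[X] M] (r : F[X]) (x : M) : mulBy M r x = r • x := rfl

end Cfsg.Agent.Lib.Helper99.KSL
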