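/-
helper99: KSL-[DET-EXACT] determinants in a short exact sequence.
-/
import Cfsg.Agent.Lib.Helper99.KSL.Defs

set_option autoImplicit false

universe u

namespace Cfsg.Agent.Lib.Helper99.KSL

variable {F : Type u} [Field F]

/-- [DET-EXACT] determinants in a short exact sequence. -/
theorem det_of_exact {A B C : Type*} [AddCommGroup A] [AddCommGroup B] [AddCommGroup C]
    [Module F A] [Module F B] [Module F C] [Module.Finite F B]
    (ι : A →ₗ[F] B) (π : B →ₗ[F] C) (hι : Function.Injective ι) (hπ : Function.Surjective π)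
    (hex : LinearMap.range ι = LinearMap.ker π)
    (fA : A →ₗ[F] A) (fB : B →ₗ[F] B) (fC : C →ₗ[F] C)
    (h1 : ι ∘ₗ fA = fB ∘ₗ ι) (h2 : π ∘ₗ fB = fC ∘ₗ π) :
    LinearMap.det fB = LinearMap.det fA * LinearMap.det fC := by
  classical
  set W : Submodule F B := LinearMap.range ι with hW
  have he : W ≤ W.comap fB := by
    rintro _ ⟨x, rfl⟩
    rw [Submodule.mem_comap]
    exact ⟨fA x, by rw [← LinearMap.comp_apply, h1]; rfl⟩
  rw [LinearMap.det_eq_det_mul_det W fB he]
  congr 1
  · -- restriction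
    let e₁ : A ≃ₗ[F] W := LinearEquiv.ofInjective ι hι
    have : fB.restrict he = (e₁ : A →ₗ[F] W) ∘ₗ fA ∘ₗ (e₁.symm : W →ₗ[F] A) := by
      apply LinearMap.ext
      intro x
      obtain ⟨y, rfl⟩ := e₁.surjective x
      apply Subtype.ext
      simp only [LinearMap.coe_restrict_apply, LinearMap.coe_comp, LinearEquiv.coe_coe,
        Function.comp_apply, LinearEquiv.symm_apply_apply]
      show fB (ι y) = ι (fA y)
      rw [← LinearMap.comp_apply, ← LinearMap.comp_apply, h1]
    rw [this, LinearMap.det_conj]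
  · -- quotient
    have hker : W = LinearMap.ker π := hex
    let e₂ : (B ⧸ W) ≃ₗ[F] C :=
      (Submodule.quotEquivOfEq W (LinearMap.ker π) hker).trans (π.quotKerEquivOfSurjective hπ)
    have he₂ : ∀ b : B, e₂ (Submodule.Quotient.mk b) = π b := fun b => rfl
    have : W.mapQ W fB he = (e₂.symm : C →ₗ[F] B ⧸ W) ∘ₗ fC ∘ₗ (e₂ : (B ⧸ W) →ₗ[F] C) := by
      apply LinearMap.ext
      intro x
      obtain ⟨b, rfl⟩ := Submodule.Quotient.mk_surjective W x
      apply e₂.injective
      simp only [LinearMap.coe_comp, LinearEquiv.coe_coe, Function.comp_apply,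
        LinearEquiv.apply_symm_apply]
      rw [Submodule.mapQ_apply, he₂, he₂, ← LinearMap.comp_apply, h2]
      rfl
    rw [this]
    exact LinearMap.det_conj fC e₂.symm

end Cfsg.Agent.Lib.Helper99.KSL
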