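/-
helper99: KSL-[Q-DETR] multiplication by `r` on `F[X]/(p^e)` has determinant the `e`-th power of
the one on `F[X]/(p)`.
-/
import Cfsg.Agent.Lib.Helper99.KSL.DetExact

set_option autoImplicit false

universe u

namespace Cfsg.Agent.Lib.Helper99.KSL

open Polynomial

variable {F : Type u} [Field F]

theorem qdetr_finite (g : F[X]) (hg : g ≠ 0) : Module.Finite F (F[X] ⧸ (F[X] ∙ g)) :=
  (AdjoinRoot.powerBasis hg).finite

/-- the step of the filtration -/
theorem qdetr_step (p r : F[X]) (hp : p ≠ 0) (e : ℕ) :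
    LinearMap.det (mulBy (F[X] ⧸ (F[X] ∙ p ^ (e + 1))) r) =
      LinearMap.det (mulBy (F[X] ⧸ (F[X] ∙ p)) r) *
        LinearMap.det (mulBy (F[X] ⧸ (F[X] ∙ p ^ e)) r) := by
  have hfin : Module.Finite F (F[X] ⧸ (F[X] ∙ p ^ (e + 1))) := qdetr_finite _ (pow_ne_zero _ hp)
  have h1 : (F[X] ∙ p) ≤ (F[X] ∙ p ^ (e + 1)).comap (LinearMap.lsmul F[X] F[X] (p ^ e)) := by
    intro x hx
    rw [Submodule.mem_span_singleton] at hx
    obtain ⟨y, rfl⟩ := hx
    rw [Submodule.mem_comap, Submodule.mem_span_singleton]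
    refine ⟨y, ?_⟩
    simp only [LinearMap.lsmul_apply, smul_eq_mul]
    ring
  have h2 : (F[X] ∙ p ^ (e + 1)) ≤ (F[X] ∙ p ^ e).comap (LinearMap.id : F[X] →ₗ[F[X]] F[X]) := by
    intro x hx
    rw [Submodule.mem_span_singleton] at hx
    obtain ⟨y, rfl⟩ := hx
    rw [Submodule.mem_comap, Submodule.mem_span_singleton]
    refine ⟨y * p, ?_⟩
    simp only [LinearMap.id_coe, id_eq, smul_eq_mul]
    ring
  let ι' : (F[X] ⧸ (F[X] ∙ p)) →ₗ[F[X]] (F[X] ⧸ (F[X] ∙ p ^ (e + 1))) :=
    Submodule.mapQ _ _ (LinearMap.lsmul F[X] F[X] (p ^ e)) h1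
  let π' : (F[X] ⧸ (F[X] ∙ p ^ (e + 1))) →ₗ[F[X]] (F[X] ⧸ (F[X] ∙ p ^ e)) :=
    Submodule.mapQ _ _ LinearMap.id h2
  have hι' : ∀ x : F[X], ι' (Submodule.Quotient.mk x) = Submodule.Quotient.mk (p ^ e * x) :=
    fun x => rfl
  have hπ' : ∀ x : F[X], π' (Submodule.Quotient.mk x) = Submodule.Quotient.mk x := fun x => rfl
  have hinj : Function.Injective ι' := by
    rw [← LinearMap.ker_eq_bot, LinearMap.ker_eq_bot']
    intro x hx
    obtain ⟨y, rfl⟩ := Submodule.Quotient.mk_surjective _ x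
    rw [hι', Submodule.Quotient.mk_eq_zero, Submodule.mem_span_singleton] at hx
    obtain ⟨z, hz⟩ := hx
    rw [Submodule.Quotient.mk_eq_zero, Submodule.mem_span_singleton]
    refine ⟨z, ?_⟩
    have hpe : p ^ e ≠ 0 := pow_ne_zero _ hp
    apply mul_left_cancel₀ hpe
    rw [← hz]
    simp only [smul_eq_mul]
    ring
  have hsurj : Function.Surjective π' := by
    intro x
    obtain ⟨y, rfl⟩ := Submodule.Quotient.mk_surjective _ x
    exact ⟨Submodule.Quotient.mk y, hπ' y⟩
  have hex : LinearMap.range (ι'.restrictScalars F) = LinearMap.ker (π'.restrictScalars F) := by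
    ext x
    obtain ⟨y, rfl⟩ := Submodule.Quotient.mk_surjective _ x
    rw [LinearMap.mem_range, LinearMap.mem_ker]
    simp only [LinearMap.coe_restrictScalars]
    rw [hπ', Submodule.Quotient.mk_eq_zero, Submodule.mem_span_singleton]
    constructor
    · rintro ⟨z, hz⟩
      obtain ⟨t, rfl⟩ := Submodule.Quotient.mk_surjective _ z
      rw [hι', Submodule.Quotient.eq, Submodule.mem_span_singleton] at hz
      obtain ⟨s, hs⟩ := hz
      refine ⟨t - s * p, ?_⟩
      simp only [smul_eq_mul] at hs ⊢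
      have : y = p ^ e * t - s * p ^ (e + 1) := by rw [hs]; ring
      rw [this]; ring
    · rintro ⟨z, hz⟩
      refine ⟨Submodule.Quotient.mk z, ?_⟩
      rw [hι', ← hz]
      simp only [smul_eq_mul]
      rw [mul_comm]
  have := det_of_exact (ι'.restrictScalars F) (π'.restrictScalars F) hinj hsurj hex
    (mulBy (F[X] ⧸ (F[X] ∙ p)) r) (mulBy (F[X] ⧸ (F[X] ∙ p ^ (e + 1))) r)
    (mulBy (F[X] ⧸ (F[X] ∙ p ^ e)) r)
    (by
      apply LinearMap.ext
      intro x
      simp only [LinearMap.coe_comp, LinearMap.coe_restrictScalars, Function.comp_apply,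
        mulBy_apply, map_smul])
    (by
      apply LinearMap.ext
      intro x
      simp only [LinearMap.coe_comp, LinearMap.coe_restrictScalars, Function.comp_apply,
        mulBy_apply, map_smul])
  exact this

/-- [Q-DETR] multiplication by `r` on `F[X]/(p^e)` has determinant the `e`-th power of the one
on `F[X]/(p)`. -/
theorem det_mulBy_pow (p r : F[X]) (hp : p ≠ 0) (e : ℕ) :
    LinearMap.det (mulBy (F[X] ⧸ (F[X] ∙ p ^ e)) r) =
      LinearMap.det (mulBy (F[X] ⧸ (F[X] ∙ p)) r) ^ e := by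
  induction e with
  | zero =>
    rw [pow_zero, pow_zero]
    have hs : Subsingleton (F[X] ⧸ (F[X] ∙ (1 : F[X]))) := by
      rw [Submodule.Quotient.subsingleton_iff]
      exact Ideal.span_singleton_one
    have : mulBy (F[X] ⧸ (F[X] ∙ (1 : F[X]))) r = LinearMap.id := by
      apply LinearMap.ext
      intro x
      exact Subsingleton.elim _ _
    rw [this, LinearMap.det_id]
  | succ e ih =>
    rw [qdetr_step p r hp e, ih, pow_succ, mul_comm]

end Cfsg.Agent.Lib.Helper99.KSL
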