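/-
helper99: KSL-[CENT] every block `F[X]/(p^e)` contributes all `e`-th powers to `det C_GL(a)`.
-/
import Cfsg.Agent.Lib.Helper99.KSL.QDetR
import Cfsg.Agent.Lib.Helper96.KslSylv
import Cfsg.Agent.Lib.Helper96.KslNormSurj
import Cfsg.Agent.Lib.Helper43.KslGlEnd

set_option autoImplicit false

universe u

namespace Cfsg.Agent.Lib.Helper99.KSL

open Polynomial DirectSum
open Cfsg.Agent.Lib.Helper99.GLClass

variable {F : Type u} [Field F] {n : ℕ}

/-- multiply one summand by `r`, leave the others -/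
noncomputable def oneBlock {ι : Type*} [DecidableEq ι] (N : ι → Type*)
    [∀ j, AddCommGroup (N j)] [∀ j, Module F[X] (N j)] (i : ι) (r : F[X]) :
    (⨁ j, N j) →ₗ[F[X]] (⨁ j, N j) :=
  LinearMap.id + (DirectSum.lof F[X] ι N i) ∘ₗ
    ((LinearMap.lsmul F[X] (N i) (r - 1)) ∘ₗ DirectSum.component F[X] ι N i)

theorem det_oneBlock {ι : Type*} [Fintype ι] [DecidableEq ι] (N : ι → Type*)
    [∀ j, AddCommGroup (N j)] [∀ j, Module F (N j)] [∀ j, Module F[X] (N j)]
    [∀ j, IsScalarTower F F[X] (N j)] [∀ j, Module.Finite F (N j)] (i : ι) (r : F[X]) :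
    LinearMap.det ((oneBlock N i r).restrictScalars F) = LinearMap.det (mulBy (N i) r) := by
  have h1 : (oneBlock N i r).restrictScalars F =
      LinearMap.id + ((DirectSum.lof F[X] ι N i).restrictScalars F) ∘ₗ
        (((LinearMap.lsmul F[X] (N i) (r - 1)) ∘ₗ
          DirectSum.component F[X] ι N i).restrictScalars F) := rfl
  rw [h1, det_one_add_comp_comm]
  congr 1
  apply LinearMap.ext
  intro x
  simp only [LinearMap.add_apply, LinearMap.id_coe, id_eq, LinearMap.coe_comp,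
    LinearMap.coe_restrictScalars, Function.comp_apply, mulBy_apply,
    DirectSum.component.lof_self, LinearMap.lsmul_apply]
  rw [sub_smul, one_smul]
  abel

/-- [CENT] every block `F[X]/(p^e)` contributes all `e`-th powers to `det C_GL(a)`. -/
theorem exists_centralizer_det_pow [Fintype F] (a : Matrix.GeneralLinearGroup (Fin n) F)
    {ι : Type*} [Fintype ι] [DecidableEq ι] (p : ι → F[X]) (e : ι → ℕ)
    (hp : ∀ i, Irreducible (p i))
    (eq : matMod (a : Matrix (Fin n) (Fin n) F) ≃ₗ[F[X]] ⨁ i, F[X] ⧸ (F[X] ∙ p i ^ e i))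
    (i : ι) (c : Fˣ) :
    ∃ h ∈ Subgroup.centralizer {a}, Matrix.GeneralLinearGroup.det h = c ^ e i := by
  obtain ⟨r, hr⟩ := exists_det_mulBy_eq (p i) (hp i) c
  have hfin : ∀ j, Module.Finite F (F[X] ⧸ (F[X] ∙ p j ^ e j)) :=
    fun j => qdetr_finite _ (pow_ne_zero _ (hp j).ne_zero)
  have hdet' := det_oneBlock (F := F) (fun j => F[X] ⧸ (F[X] ∙ p j ^ e j)) i r
  rw [det_mulBy_pow (p i) r (hp i).ne_zero (e i), hr] at hdet'
  let θ : matMod (a : Matrix (Fin n) (Fin n) F) →ₗ[F[X]] matMod (a : Matrix (Fin n) (Fin n) F) :=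
    (eq.symm : _ →ₗ[F[X]] _) ∘ₗ (oneBlock (fun j => F[X] ⧸ (F[X] ∙ p j ^ e j)) i r) ∘ₗ
      (eq : _ →ₗ[F[X]] _)
  have hdet : LinearMap.det (θ.restrictScalars F) = ((c ^ e i : Fˣ) : F) := by
    have h3 : θ.restrictScalars F =
        (((eq.restrictScalars F).symm : _ ≃ₗ[F] _) : _ →ₗ[F] _) ∘ₗ
          ((oneBlock (fun j => F[X] ⧸ (F[X] ∙ p j ^ e j)) i r).restrictScalars F) ∘ₗ
          ((((eq.restrictScalars F).symm : _ ≃ₗ[F] _).symm : _ ≃ₗ[F] _) : _ →ₗ[F] _) := rfl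
    rw [h3, LinearMap.det_conj, hdet', Units.val_pow_eq_pow_val]
  exact exists_centralizer_of_end a θ (c ^ e i) hdet

end Cfsg.Agent.Lib.Helper99.KSL
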