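/-
helper99: KSL-[IDX] the index of `det C_GL(a)` from the invariant tuple.
-/
import Cfsg.Agent.Lib.Helper99.KSL.Cent
import Cfsg.Agent.Lib.Helper96.KslCycIdx

set_option autoImplicit false

universe u

namespace Cfsg.Agent.Lib.Helper99.KSL

open Polynomial DirectSum Finset
open Cfsg.Agent.Lib.Helper99.GLClass

variable {F : Type u} [Field F] {n : ℕ}

/-- [IDX] the index of `det C_GL(a)` from the invariant tuple. -/
theorem isInv_index_le [Fintype F] {a : Matrix.GeneralLinearGroup (Fin n) F} {H : Fin n → F[X]}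
    (h : IsInv a H) :
    ((Subgroup.centralizer {a}).map Matrix.GeneralLinearGroup.det).index ≤
      tg (Fintype.card F) H := by
  classical
  obtain ⟨ι, hι, hdec, p, e, hp, ⟨eq⟩, hH⟩ := h
  set D := (Subgroup.centralizer {a}).map Matrix.GeneralLinearGroup.det with hD
  let S : Finset ℕ :=
    (univ.filter (fun j : Fin n => (H j).natDegree ≠ 0)).image (fun j : Fin n => (j : ℕ) + 1)
  have hS : ∀ m ∈ S, ∀ c : Fˣ, c ^ m ∈ D := by
    intro m hm c
    rw [mem_image] at hm
    obtain ⟨j, hj, rfl⟩ := hm
    rw [mem_filter] at hj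
    have hex : ∃ i, e i = (j : ℕ) + 1 := by
      by_contra hne
      push Not at hne
      apply hj.2
      rw [hH j, Finset.filter_false_of_mem (fun i _ => hne i), Finset.prod_empty,
        natDegree_one]
    obtain ⟨i, hi⟩ := hex
    obtain ⟨g, hg, hdet⟩ := exists_centralizer_det_pow a p e hp eq i c
    rw [← hi, ← hdet]
    exact Subgroup.mem_map_of_mem _ hg
  have hmain := index_le_gcd_of_pow_mem D S hS
  have hcard : Nat.card Fˣ = Fintype.card F - 1 := by
    rw [Nat.card_eq_fintype_card, Fintype.card_units]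
  rw [hcard, Finset.gcd_image] at hmain
  exact hmain

end Cfsg.Agent.Lib.Helper99.KSL
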